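import Mathlib.Algebra.Module.Projective
import Mathlib.LinearAlgebra.DFinsupp
import Mathlib.Data.Finsupp.ToDFinsupp
import Mathlib.RingTheory.TensorProduct.Basic

/-!
# Small lemmas on projective modules
-/

namespace Groth.Agent.ProjSect14

/-- Projectivity is transitive along algebras which are projective as modules. -/
theorem projective_trans {R R' P : Type*} [CommRing R] [CommRing R'] [Algebra R R'] [AddCommGroup P]
    [Module R P] [Module R' P] [IsScalarTower R R' P] [Module.Projective R R'] [Module.Projective R' P] :
    Module.Projective R P := by
  classical
  obtain ⟨s, hs⟩ := Module.projective_def'.1 ‹Module.Projective R' P›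
  have : Module.Projective R (P →₀ R') :=
    Module.Projective.of_equiv' (finsuppLequivDFinsupp R).symm
  exact Module.Projective.of_split (s.restrictScalars R)
    ((Finsupp.linearCombination R' id).restrictScalars R) (LinearMap.ext fun x => LinearMap.congr_fun hs x)

/-- Finite products of projective modules are projective. -/
theorem projective_pi {R κ : Type*} [CommRing R] [Finite κ] (Q : κ → Type*) [∀ k, AddCommGroup (Q k)]
    [∀ k, Module R (Q k)] [∀ k, Module.Projective R (Q k)] : Module.Projective R (∀ k, Q k) := by
  classical
  have := Fintype.ofFinite κ
  exact Module.Projective.of_equiv' DFinsupp.linearEquivFunOnFintype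

end Groth.Agent.ProjSect14
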