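import Groth.Agent.Lib.QcohEt15.Pull.Desc
import Groth.Agent.Lib.CAlgLow.ProjCrit
import Groth.Agent.Lib.ProjSect14.Alg

/-!
# Projectivity of sections over affine objects is local
-/

universe u v

open CategoryTheory CategoryTheory.Limits AlgebraicGeometry Opposite TensorProduct

set_option linter.style.haveILetI false
set_option maxHeartbeats 800000
set_option backward.isDefEq.respectTransparency false
set_option backward.isDefEq.respectTransparency.types false

namespace Groth.Agent.ProjSect14

open AlgSp Groth.Agent.QcohEt15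

variable {S : Scheme.{u}} {X : Sp S} {M : ModEt X}

/-- Projectivity of sections passes to objects over a given one. -/
theorem projective_of_hom {E E' : EtOver X} [IsAffine E.obj.left.left] [IsAffine E'.obj.left.left]
    (g : E' ⟶ E) (hG : BC M g) (h : Module.Projective (Γo E) (sectModEt M E)) :
    Module.Projective (Γo E') (sectModEt M E') := by
  haveI := h
  haveI : Module.Projective (Tw g) (Tw g ⊗[Γo E] sectModEt M E) := inferInstance
  haveI : Module.Projective (Γo E') (Tw g ⊗[Γo E] sectModEt M E) := this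
  exact Module.Projective.of_equiv' (LinearEquiv.ofBijective (liftₗ g LinearMap.id) hG)

/-- Projectivity of sections over a finite disjoint union. -/
theorem projective_coprod {κ : Type u} [Finite κ] {E₀ : EtOver X} [IsAffine E₀.obj.left.left]
    {Y : κ → EtOver X} [∀ k, IsAffine (Y k).obj.left.left] (ι : ∀ k, Y k ⟶ E₀)
    (hop : ∀ k, IsOpenImmersion (ι k).hom.left.left)
    (hc : ∀ x : ↥E₀.obj.left.left, ∃ k, x ∈ Set.range (ι k).hom.left.left)
    (hd : ∀ k l (Z : EtOver X) (a : Z ⟶ Y k) (b : Z ⟶ Y l), a ≫ ι k = b ≫ ι l → k ≠ l → IsEmpty ↥Z.obj.left.left)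
    (hG : ∀ k, BC M (ι k)) (hY : ∀ k, Module.Projective (Γo (Y k)) (sectModEt M (Y k))) :
    Module.Projective (Γo E₀) (sectModEt M E₀) := by
  classical
  have := Fintype.ofFinite κ
  obtain ⟨s, hs1, hs2, hsadd, hsmul, hsum⟩ := exists_split ι hop hc hd
  letI : ∀ k, Module (Γo E₀) (sectModEt M (Y k)) := fun k => Module.compHom _ (γ (ι k))
  have hproj : ∀ k, Module.Projective (Γo E₀) (sectModEt M (Y k)) := by
    intro k
    haveI : Module.Projective (Γo E₀) (Tw (ι k)) := by
      let i : Tw (ι k) →ₗ[Γo E₀] Γo E₀ :=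
        { toFun := fun a => s k (Tw.out a), map_add' := hsadd k, map_smul' := fun c a => hsmul k c (Tw.out a) }
      exact Module.Projective.of_split i (Algebra.linearMap (Γo E₀) (Tw (ι k)))
        (LinearMap.ext fun a => hs1 k (Tw.out a))
    letI : Module (Tw (ι k)) (sectModEt M (Y k)) := sectModule M (Y k)
    haveI : IsScalarTower (Γo E₀) (Tw (ι k)) (sectModEt M (Y k)) :=
      ⟨fun c a m => mul_smul (γ (ι k) c) (Tw.out a) m⟩
    haveI : Module.Projective (Tw (ι k)) (sectModEt M (Y k)) := hY k
    exact projective_trans (R' := Tw (ι k))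
  haveI := projective_pi (R := Γo E₀) (fun k => sectModEt M (Y k))
  let Φ : sectModEt M E₀ →ₗ[Γo E₀] ∀ k, sectModEt M (Y k) :=
    { toFun := fun m k => res M (ι k) m
      map_add' := fun m n => funext fun k => map_add _ m n
      map_smul' := fun c m => funext fun k => res_smul M (ι k) c m }
  have hsurj : ∀ k (m : sectModEt M (Y k)), ∃ n, res M (ι k) n = m := by
    intro k m
    obtain ⟨z, rfl⟩ := (hG k).2 m
    induction z using TensorProduct.induction_on with
    | zero => exact ⟨0, by rw [map_zero, map_zero]⟩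
    | tmul a n =>
      refine ⟨s k (Tw.out a) • n, ?_⟩
      rw [res_smul, hs1, lift_tmul]
      rfl
    | add x y hx hy =>
      obtain ⟨a, ha⟩ := hx
      obtain ⟨b, hb⟩ := hy
      exact ⟨a + b, by rw [map_add, map_add, ha, hb]⟩
  have hΦ : Function.Bijective Φ := by
    refine ⟨fun m n e => sections_ext_family M Y ι hc fun k => congrFun e k, fun w => ?_⟩
    choose n hn using fun k => hsurj k (w k)
    refine ⟨∑ k, s k 1 • n k, funext fun l => ?_⟩
    change res M (ι l) (∑ k, s k 1 • n k) = w l
    rw [map_sum, Finset.sum_eq_single l (fun k _ hk => by rw [res_smul, hs2 k l 1 hk.symm, zero_smul])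
      (fun h => absurd (Finset.mem_univ l) h), res_smul, hs1, one_smul, hn]
  exact Module.Projective.of_equiv' (LinearEquiv.ofBijective Φ hΦ).symm

/-- Projectivity of small sections descends along an affine cover. -/
theorem projective_of_cover [M.IsQuasicoherent] {E : EtOver X} [IsAffine E.obj.left.left]
    {κ : Type u} [Finite κ] (Y : κ → EtOver X) (g : ∀ k, Y k ⟶ E) [∀ k, IsAffine (Y k).obj.left.left]
    (hcov : ∀ x : ↥E.obj.left.left, ∃ k, x ∈ Set.range (g k).hom.left.left)
    (hY : ∀ k, Module.Projective (Γo (Y k)) (sectModEt M (Y k)))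
    {N : Type u} [AddCommGroup N] [Module (Γo E) N] (e : N ≃ₗ[Γo E] sectModEt M E) :
    Module.Projective (Γo E) N := by
  obtain ⟨E₀, hE₀, ι, h, hι, hop, hc, hd⟩ := exists_coprod E Y g
  haveI := hE₀
  have hs : Surjective h.hom.left.left := ⟨fun x => by
    obtain ⟨k, v, hv⟩ := hcov x
    refine ⟨(ι k).hom.left.left v, ?_⟩
    rw [← hι k] at hv
    exact hv⟩
  haveI := projective_coprod ι hop hc hd (fun k => good_of_isQuasicoherent E₀ (ι k)) hY
  haveI := Tw.faithfullyFlat h hs
  let Ψ : Tw h ⊗[Γo E] N →ₗ[Γo E₀] sectModEt M E₀ := liftₗ h e.toLinearMap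
  have hΨ : Function.Bijective Ψ := by
    have hcomp : ⇑Ψ = lift h (LinearMap.id : sectModEt M E →ₗ[Γo E] _) ∘ e.toLinearMap.lTensor (Tw h) :=
      funext fun z => lift_comp h LinearMap.id e.toLinearMap z
    rw [hcomp]
    exact Function.Bijective.comp (good_of_isQuasicoherent E h) (e.lTensor (Tw h)).bijective
  haveI : Module.Projective (Γo E₀) (Tw h ⊗[Γo E] N) :=
    Module.Projective.of_equiv' (LinearEquiv.ofBijective Ψ hΨ).symm
  haveI : Module.Projective (Tw h) (Tw h ⊗[Γo E] N) := this
  exact CAlgLow.projective_of_faithfullyFlat (R := Γo E) (M := N) (S := Tw h)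

end Groth.Agent.ProjSect14
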