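import Groth.Agent.Lib.EtPush14.QcohChart
import Groth.Agent.Lib.ProjSect14.Local
import Groth.Prelude.Def_AlgSpModX

/-!
# Sections over the opens of a chart
-/

universe u

open CategoryTheory CategoryTheory.Limits AlgebraicGeometry Opposite TensorProduct

set_option linter.style.haveILetI false
set_option maxHeartbeats 800000
set_option backward.isDefEq.respectTransparency false
set_option backward.isDefEq.respectTransparency.types false

namespace Groth.Agent.ProjSect14

open AlgSp Groth.Agent.QcohEt15 Groth.Agent.EtPush14 Groth.Agent.AlgSpace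

variable {S : Scheme.{u}} {X : Space S} {V : Over S} (q : (yon S).obj V ⟶ X.obj) (hq : RepWith @Etale q)

/-- An open of a chart as an object of the small etale site. -/
noncomputable abbrev openObj (W : V.left.Opens) : EtOver X.obj :=
  (EtOver.postcomp q (isEtaleMor_of_repWith q hq)).obj ((EtOver.ofScheme V).obj (etaleOfOpen V.left W))

/-- The ring isomorphism between functions on the open and functions on the object. -/
noncomputable def openRing (W : V.left.Opens) : Γ(V.left, W) ≃+* Γo (openObj q hq W) :=
  W.topIso.symm.commRingCatIsoToRingEquiv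

variable (hrep : Representable q) [(SheafOfModules.pushforward.{u + 1} (bcRingHom hrep)).IsRightAdjoint]
  (F : ModEt X.obj) (G : V.left.Modules)

/-- Sections over opens of a Zariski companion are sections of the module. -/
theorem exists_openEquiv (c : ZarCompanion V.left G ((resSchModEt V).obj ((pullModEt hrep).obj F)))
    (W : V.left.Opens) :
    ∃ e : (G.val.obj (op W) : Type u) ≃+ sectModEt F (openObj q hq W),
      ∀ (a : Γ(V.left, W)) (m : G.val.obj (op W)), e (a • m) = openRing q hq W a • e m := by
  haveI := (AlgSpEt14.postcomp_isContinuous_isCocontinuous q (isEtaleMor_of_repWith q hq)).1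
  let i : (pullModEt hrep).obj F ≅ (restrEt (isEtaleMor_of_repWith q hq)).obj F :=
    (((restrPushAdj hrep (isEtaleMor_of_repWith q hq)).leftAdjointUniq (pullPushAdjModEt hrep)).app F).symm
  let E := (EtOver.ofScheme V).obj (etaleOfOpen V.left W)
  let φ := appₗ i.hom E
  have hφ : Function.Bijective φ := Function.bijective_iff_has_inverse.2 ⟨appₗ i.inv E,
    fun m => congrArg (fun ψ => appₗ ψ E m) i.hom_inv_id,
    fun m => congrArg (fun ψ => appₗ ψ E m) i.inv_hom_id⟩
  let φe : sectModEt ((pullModEt hrep).obj F) E ≃+
      sectModEt ((restrEt (isEtaleMor_of_repWith q hq)).obj F) E :=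
    AddEquiv.ofBijective φ.toAddMonoidHom hφ
  let e : (G.val.obj (op W) : Type u) ≃+ sectModEt F (openObj q hq W) :=
    AddEquiv.ulift.symm.trans ((c.iso W).symm.trans φe)
  refine ⟨e, fun a m => ?_⟩
  let b : Γo E := W.topIso.inv a
  have h1 : (c.iso W).symm (ULift.up (a • m)) =
      ((ULift.up b : (OEtSchRing V.left).obj.obj (op (etaleOfOpen V.left W))) •
        (c.iso W).symm (ULift.up m)) := by
    apply (c.iso W).injective
    rw [AddEquiv.apply_symm_apply]
    refine Eq.trans ?_ (c.map_smul W a _).symm
    rw [AddEquiv.apply_symm_apply]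
  change φ ((c.iso W).symm (ULift.up (a • m))) = _
  rw [h1]
  exact (φ.map_smul b ((c.iso W).symm (ULift.up m) : sectModEt ((pullModEt hrep).obj F) E)).trans rfl

variable (c : ZarCompanion V.left G ((resSchModEt V).obj ((pullModEt hrep).obj F)))

include hrep c in
theorem projective_open_of_companion (W : V.left.Opens)
    (h : Module.Projective (V.left.ringCatSheaf.obj.obj (op W)) (G.val.obj (op W))) :
    Module.Projective (Γo (openObj q hq W)) (sectModEt F (openObj q hq W)) := by
  obtain ⟨e, he⟩ := exists_openEquiv q hq hrep F G c W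
  haveI : RingHomInvPair (openRing q hq W).toRingHom (openRing q hq W).symm.toRingHom :=
    RingHomInvPair.of_ringEquiv (openRing q hq W)
  haveI : RingHomInvPair (openRing q hq W).symm.toRingHom (openRing q hq W).toRingHom :=
    RingHomInvPair.of_ringEquiv (openRing q hq W).symm
  haveI : Module.Projective Γ(V.left, W) (G.val.obj (op W)) := h
  exact Module.Projective.of_equiv (R := Γ(V.left, W))
    ({ e with map_smul' := he } : (G.val.obj (op W) : Type u) ≃ₛₗ[(openRing q hq W).toRingHom]
      sectModEt F (openObj q hq W))

include hrep c in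
theorem projective_companion_of_cover [F.IsQuasicoherent] (W : V.left.Opens) (hW : IsAffineOpen W)
    {κ : Type u} [Finite κ] (Y : κ → EtOver X.obj) (g : ∀ k, Y k ⟶ openObj q hq W)
    [∀ k, IsAffine (Y k).obj.left.left]
    (hcov : ∀ x : ↥(openObj q hq W).obj.left.left, ∃ k, x ∈ Set.range (g k).hom.left.left)
    (hY : ∀ k, Module.Projective (Γo (Y k)) (sectModEt F (Y k))) :
    Module.Projective (V.left.ringCatSheaf.obj.obj (op W)) (G.val.obj (op W)) := by
  obtain ⟨e, he⟩ := exists_openEquiv q hq hrep F G c W
  haveI : IsAffine (openObj q hq W).obj.left.left := hW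
  let r := openRing q hq W
  letI : Module (Γo (openObj q hq W)) (G.val.obj (op W)) :=
    Module.compHom _ (r.symm.toRingHom : Γo (openObj q hq W) →+* Γ(V.left, W))
  let e' : (G.val.obj (op W) : Type u) ≃ₗ[Γo (openObj q hq W)] sectModEt F (openObj q hq W) :=
    { e with
      map_smul' := fun b m => (he (r.symm b) m).trans
        (congrArg (fun z => z • e m) (r.apply_symm_apply b)) }
  have hp := projective_of_cover Y g hcov hY e'
  haveI : RingHomInvPair r.toRingHom r.symm.toRingHom := RingHomInvPair.of_ringEquiv r
  haveI : RingHomInvPair r.symm.toRingHom r.toRingHom := RingHomInvPair.of_ringEquiv r.symm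
  haveI := hp
  exact Module.Projective.of_equiv (R := Γo (openObj q hq W))
    ({ AddEquiv.refl (G.val.obj (op W) : Type u) with map_smul' := fun b m => rfl } :
      (G.val.obj (op W) : Type u) ≃ₛₗ[r.symm.toRingHom] (G.val.obj (op W) : Type u))

end Groth.Agent.ProjSect14
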