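import Groth.Agent.Lib.ProjSect14.Chart
import Groth.Agent.Lib.ModM1.QcohCrit
import Mathlib.Topology.Sheaves.SheafCondition.UniqueGluing
import Mathlib.RingTheory.Localization.BaseChange

/-!
# A small Zariski companion of a module with small sections on affine objects
-/

universe u

open CategoryTheory CategoryTheory.Limits AlgebraicGeometry Opposite TensorProduct TopologicalSpace

set_option linter.style.haveILetI false
set_option maxHeartbeats 800000
set_option backward.isDefEq.respectTransparency false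
set_option backward.isDefEq.respectTransparency.types false

namespace Groth.Agent.ProjSect14

open AlgSp Groth.Agent.QcohEt15 Groth.Agent.EtPush14 Groth.Agent.AlgSpace

variable {S : Scheme.{u}} {X : Space S} {V : Over S} (q : (yon S).obj V ⟶ X.obj) (hq : RepWith @Etale q)
  (F : ModEt X.obj)

/-- The inclusion of opens as a morphism of the small etale site. -/
noncomputable def openMap {W W' : V.left.Opens} (h : W' ≤ W) : openObj q hq W' ⟶ openObj q hq W :=
  (EtOver.postcomp q (isEtaleMor_of_repWith q hq)).map ((EtOver.ofScheme V).map (etaleOfLE h))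

theorem open_hom_ext {Z : EtOver X.obj} {W : V.left.Opens} {a b : Z ⟶ openObj q hq W}
    (e : a.hom.left.left ≫ W.ι = b.hom.left.left ≫ W.ι) : a = b :=
  EtOver.hom_ext _ _ (Over.OverMorphism.ext ((cancel_mono W.ι).1 e))

theorem openMap_ι {W W' : V.left.Opens} (h : W' ≤ W) :
    (openMap q hq h).hom.left.left ≫ W.ι = W'.ι :=
  V.left.homOfLE_ι h

theorem openMap_comp {W W' W'' : V.left.Opens} (h : W' ≤ W) (h' : W'' ≤ W') :
    openMap q hq h' ≫ openMap q hq h = openMap q hq (h'.trans h) :=
  open_hom_ext q hq (by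
    change ((openMap q hq h').hom.left.left ≫ (openMap q hq h).hom.left.left) ≫ W.ι = _
    rw [Category.assoc, openMap_ι, openMap_ι, openMap_ι])

theorem openMap_id (W : V.left.Opens) : openMap q hq (le_refl W) = 𝟙 _ :=
  open_hom_ext q hq (by rw [openMap_ι]; exact (Category.id_comp _).symm)

theorem γ_openMap {W W' : V.left.Opens} (h : W' ≤ W) (a : Γ(V.left, W)) :
    γ (openMap q hq h) (openRing q hq W a) = openRing q hq W' (V.left.presheaf.map (homOfLE h).op a) := by
  change (W.topIso.inv ≫ (V.left.homOfLE h).appTop) a = (V.left.presheaf.map (homOfLE h).op ≫ W'.topIso.inv) a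
  congr 2
  simp only [Scheme.Opens.topIso, Functor.mapIso_inv, Iso.op_inv, eqToIso.inv, eqToHom_op,
    Scheme.homOfLE_appTop]
  exact ((Functor.map_comp _ _ _).symm.trans (congrArg _ (Subsingleton.elim _ _))).trans
    (Functor.map_comp _ _ _)

/-- Every object mapping into two opens maps into their intersection. -/
theorem exists_to_inf {W₁ W₂ : V.left.Opens} {Z : EtOver X.obj} (a : Z ⟶ openObj q hq W₁)
    (b : Z ⟶ openObj q hq W₂) (e : a.hom.left.left ≫ W₁.ι = b.hom.left.left ≫ W₂.ι) :
    ∃ k : Z ⟶ openObj q hq (W₁ ⊓ W₂),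
      k ≫ openMap q hq inf_le_left = a ∧ k ≫ openMap q hq inf_le_right = b := by
  have hr : Set.range (a.hom.left.left ≫ W₁.ι) ⊆ Set.range (W₁ ⊓ W₂).ι := by
    rintro _ ⟨z, rfl⟩
    rw [Scheme.Opens.range_ι]
    refine ⟨(a.hom.left.left z).2, ?_⟩
    rw [e]
    exact (b.hom.left.left z).2
  let l := IsOpenImmersion.lift (W₁ ⊓ W₂).ι (a.hom.left.left ≫ W₁.ι) hr
  have hl : l ≫ (W₁ ⊓ W₂).ι = a.hom.left.left ≫ W₁.ι := IsOpenImmersion.lift_fac _ _ _
  have hlS : l ≫ (W₁ ⊓ W₂).ι ≫ V.hom = Z.obj.left.hom := by
    rw [← Category.assoc, hl, Category.assoc]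
    exact Over.w a.hom.left
  let lo : Z.obj.left ⟶ (openObj q hq (W₁ ⊓ W₂)).obj.left := Over.homMk l hlS
  refine ⟨EtOver.homMk lo ?_, open_hom_ext q hq ?_, open_hom_ext q hq ?_⟩
  · refine Eq.trans ?_ (EtOver.w a)
    change (yon S).map lo ≫ (((yon S).map _ ≫ 𝟙 _) ≫ q) =
      (yon S).map a.hom.left ≫ (((yon S).map _ ≫ 𝟙 _) ≫ q)
    rw [← Category.assoc, ← Category.assoc, ← Category.assoc, ← Category.assoc, ← Functor.map_comp,
      ← Functor.map_comp]
    refine congrArg (fun m => ((yon S).map m ≫ 𝟙 _) ≫ q) ?_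
    ext1
    exact hl
  · change (l ≫ (openMap q hq inf_le_left).hom.left.left) ≫ W₁.ι = _
    rw [Category.assoc, openMap_ι, hl]
  · change (l ≫ (openMap q hq inf_le_right).hom.left.left) ≫ W₂.ι = _
    rw [Category.assoc, openMap_ι, hl, e]

/-- Sections over opens are small once those over affine opens are. -/
theorem small_open (hsm : ∀ W : V.left.Opens, IsAffineOpen W → Small.{u} (sectModEt F (openObj q hq W)))
    (W : V.left.Opens) : Small.{u} (sectModEt F (openObj q hq W)) := by
  let I := {W' : V.left.Opens // IsAffineOpen W' ∧ W' ≤ W}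
  haveI : ∀ i : I, Small.{u} (sectModEt F (openObj q hq i.1)) := fun i => hsm i.1 i.2.1
  refine small_of_injective
    (f := fun m (i : I) => equivShrink _ (res F (openMap q hq i.2.2) m)) fun m n e => ?_
  refine sections_ext_family F (fun i : I => openObj q hq i.1) (fun i => openMap q hq i.2.2)
    (fun x => ?_) fun i => (equivShrink _).injective (congrFun e i)
  obtain ⟨_, ⟨(W' : V.left.Opens), hW', rfl⟩, hxW', hle⟩ :=
    V.left.isBasis_affineOpens.exists_subset_of_mem_open (show W.ι x ∈ (W : Set V.left) from x.2) W.isOpen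
  refine ⟨⟨W', hW', hle⟩, ⟨W.ι x, hxW'⟩, Subtype.ext ?_⟩
  exact congrArg (fun φ => φ ⟨W.ι x, hxW'⟩) (openMap_ι q hq hle)

variable [∀ W : V.left.Opens, Small.{u} (sectModEt F (openObj q hq W))]

noncomputable instance openModule (W : V.left.Opens) :
    Module Γ(V.left, W) (sectModEt F (openObj q hq W)) :=
  Module.compHom _ (openRing q hq W).toRingHom

theorem openModule_smul (W : V.left.Opens) (a : Γ(V.left, W)) (m : sectModEt F (openObj q hq W)) :
    a • m = openRing q hq W a • m := rfl

/-- The equivalence with the small model. -/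
noncomputable def shr (W : V.left.Opens) :
    sectModEt F (openObj q hq W) ≃ₗ[Γ(V.left, W)] Shrink.{u} (sectModEt F (openObj q hq W)) :=
  (Shrink.linearEquiv Γ(V.left, W) _).symm

/-- Restriction between small models. -/
noncomputable def shrRes {W W' : V.left.Opens} (h : W' ≤ W) :
    Shrink.{u} (sectModEt F (openObj q hq W)) →+ Shrink.{u} (sectModEt F (openObj q hq W')) :=
  (shr q hq F W').toAddEquiv.toAddMonoidHom.comp
    ((res F (openMap q hq h)).comp (shr q hq F W).symm.toAddEquiv.toAddMonoidHom)

theorem shrRes_shr {W W' : V.left.Opens} (h : W' ≤ W) (m : sectModEt F (openObj q hq W)) :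
    shrRes q hq F h (shr q hq F W m) = shr q hq F W' (res F (openMap q hq h) m) := by
  change shr q hq F W' (res F (openMap q hq h) ((shr q hq F W).symm (shr q hq F W m))) = _
  rw [LinearEquiv.symm_apply_apply]

theorem shrRes_smul {W W' : V.left.Opens} (h : W' ≤ W) (a : Γ(V.left, W))
    (x : Shrink.{u} (sectModEt F (openObj q hq W))) :
    shrRes q hq F h (a • x) = V.left.presheaf.map (homOfLE h).op a • shrRes q hq F h x := by
  obtain ⟨m, rfl⟩ := (shr q hq F W).surjective x
  rw [← map_smul, shrRes_shr, shrRes_shr, ← map_smul, openModule_smul, openModule_smul, res_smul,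
    γ_openMap]

/-- The small model as a presheaf. -/
noncomputable def zarAb : (Opens V.left)ᵒᵖ ⥤ AddCommGrpCat.{u} where
  obj W := AddCommGrpCat.of (Shrink.{u} (sectModEt F (openObj q hq W.unop)))
  map {W W'} f := AddCommGrpCat.ofHom (shrRes q hq F f.unop.le)
  map_id W := by
    refine AddCommGrpCat.hom_ext (AddMonoidHom.ext fun x => ?_)
    obtain ⟨m, rfl⟩ := (shr q hq F W.unop).surjective x
    refine (shrRes_shr q hq F _ m).trans ?_
    rw [openMap_id, res_id]
    rfl
  map_comp {W W' W''} f g := by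
    refine AddCommGrpCat.hom_ext (AddMonoidHom.ext fun x => ?_)
    obtain ⟨m, rfl⟩ := (shr q hq F W.unop).surjective x
    refine (shrRes_shr q hq F _ m).trans ?_
    refine Eq.trans ?_ ((congrArg _ (shrRes_shr q hq F f.unop.le m)).trans
      (shrRes_shr q hq F g.unop.le _)).symm
    rw [← res_comp, openMap_comp]

noncomputable instance zarModule (W : (Opens V.left)ᵒᵖ) :
    Module (V.left.ringCatSheaf.obj.obj W) ((zarAb q hq F).obj W) :=
  inferInstanceAs (Module Γ(V.left, W.unop) (Shrink.{u} (sectModEt F (openObj q hq W.unop))))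

/-- The small model as a presheaf of modules. -/
noncomputable def zarPre : PresheafOfModules.{u} V.left.ringCatSheaf.obj :=
  PresheafOfModules.ofPresheaf (zarAb q hq F) fun _ _ f r m => shrRes_smul q hq F f.unop.le r m

theorem isSheaf_zarAb : TopCat.Presheaf.IsSheaf (X := V.left.toPresheafedSpace) (zarAb q hq F) := by
  rw [TopCat.Presheaf.isSheaf_iff_isSheafUniqueGluing]
  intro ι U sf hsf
  choose m hm using fun i => (shr q hq F (U i)).surjective (sf i)
  have hcov : ∀ x : ↥(openObj q hq (iSup U)).obj.left.left,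
      ∃ i : ULift.{u + 1} ι, x ∈ Set.range (openMap q hq (le_iSup U i.down)).hom.left.left := fun x => by
    obtain ⟨i, hi⟩ := Opens.mem_iSup.1 x.2
    exact ⟨⟨i⟩, ⟨_, hi⟩, Subtype.ext (congrArg (fun φ => φ ⟨_, hi⟩) (openMap_ι q hq (le_iSup U i)))⟩
  obtain ⟨m₀, hm₀⟩ := exists_glue_family F (ι := ULift.{u + 1} ι) (fun i => openObj q hq (U i.down))
    (fun i => openMap q hq (le_iSup U i.down)) hcov (fun i => m i.down) fun i j Z a b e => by
      have e' : a.hom.left.left ≫ Scheme.Opens.ι (X := V.left) (U i.down) =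
          b.hom.left.left ≫ Scheme.Opens.ι (X := V.left) (U j.down) := by
        have := congrArg (fun φ => φ.hom.left.left ≫ Scheme.Opens.ι (X := V.left) (iSup U)) e
        change (a.hom.left.left ≫ _) ≫ _ = (b.hom.left.left ≫ _) ≫ _ at this
        rwa [Category.assoc, Category.assoc, openMap_ι, openMap_ι] at this
      obtain ⟨k, rfl, rfl⟩ := exists_to_inf q hq a b e'
      rw [res_comp, res_comp]
      refine congrArg _ ((shr q hq F _).injective ?_)
      rw [← shrRes_shr, ← shrRes_shr, hm, hm]
      exact hsf i.down j.down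
  refine ⟨shr q hq F _ m₀, fun i => ?_, fun y hy => ?_⟩
  · refine (shrRes_shr q hq F (le_iSup U i) m₀).trans ?_
    rw [hm₀ ⟨i⟩, hm]
  · obtain ⟨n, rfl⟩ := (shr q hq F _).surjective y
    refine congrArg _ (sections_ext_family F (fun i : ULift.{u + 1} ι => openObj q hq (U i.down))
      (fun i => openMap q hq (le_iSup U i.down)) hcov fun i => (shr q hq F _).injective ?_)
    rw [← shrRes_shr, hm₀, hm]
    exact hy i.down

/-- The small model as a sheaf of modules on the scheme. -/
noncomputable def zarMod : V.left.Modules where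
  val := zarPre q hq F
  isSheaf := isSheaf_zarAb q hq F

theorem isQCoh_zarMod [F.IsQuasicoherent] : Coh.IsQCoh (zarMod q hq F) := by
  have hloc : ∀ (U : V.left.Opens), IsAffineOpen U → ∀ (r : Γ(V.left, U)),
      (∀ m : sectModEt F (openObj q hq (V.left.basicOpen r)), ∃ (k : ℕ) (n : sectModEt F (openObj q hq U)),
        res F (openMap q hq (V.left.basicOpen_le r)) n =
          V.left.presheaf.map (homOfLE (V.left.basicOpen_le r)).op r ^ k • m) ∧
      ∀ n : sectModEt F (openObj q hq U), res F (openMap q hq (V.left.basicOpen_le r)) n = 0 →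
        ∃ k : ℕ, r ^ k • n = 0 := by
    intro U hU r
    let D := V.left.basicOpen r
    let g := openMap q hq (V.left.basicOpen_le r)
    haveI : IsAffine (openObj q hq U).obj.left.left := hU
    haveI : IsAffine (openObj q hq D).obj.left.left := hU.basicOpen r
    have hb := good_of_isQuasicoherent (M := F) (openObj q hq U) g
    haveI := hU.isLocalization_basicOpen r
    let a := openRing q hq U r
    letI : Algebra Γ(V.left, U) Γ(V.left, D) :=
      (V.left.presheaf.map (homOfLE (V.left.basicOpen_le r)).op).hom.toAlgebra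
    haveI : IsLocalization (Submonoid.powers a) (Tw g) := by
      have h1 : IsLocalization (Submonoid.powers r) Γ(V.left, D) := hU.isLocalization_basicOpen r
      let eD : Γ(V.left, D) ≃+* Tw g := openRing q hq D
      have hcomm : ∀ x, algebraMap (Γo (openObj q hq U)) (Tw g) (openRing q hq U x) =
          eD (algebraMap Γ(V.left, U) Γ(V.left, D) x) := fun x =>
        γ_openMap q hq (V.left.basicOpen_le r) x
      refine ⟨⟨?_, fun z => ?_, fun {x y} h => ?_⟩⟩
      · rintro ⟨_, k, rfl⟩
        change IsUnit (algebraMap (Γo (openObj q hq U)) (Tw g) (a ^ k))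
        rw [map_pow, hcomm]
        exact ((IsLocalization.map_units Γ(V.left, D) (⟨r, 1, pow_one r⟩ : Submonoid.powers r)).map eD).pow k
      · obtain ⟨⟨x, ⟨_, k, rfl⟩⟩, hx⟩ := IsLocalization.surj (Submonoid.powers r) (eD.symm z)
        refine ⟨(openRing q hq U x, ⟨a ^ k, k, rfl⟩), ?_⟩
        change z * algebraMap _ (Tw g) (a ^ k) = algebraMap _ (Tw g) (openRing q hq U x)
        rw [map_pow, hcomm, hcomm, ← hx, map_mul, RingEquiv.apply_symm_apply, map_pow, map_pow]
      · obtain ⟨x, rfl⟩ := (openRing q hq U).surjective x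
        obtain ⟨y, rfl⟩ := (openRing q hq U).surjective y
        rw [hcomm, hcomm] at h
        obtain ⟨⟨_, k, rfl⟩, hc⟩ := IsLocalization.exists_of_eq (M := Submonoid.powers r) (eD.injective h)
        refine ⟨⟨a ^ k, k, rfl⟩, ?_⟩
        have hc' := congrArg (openRing q hq U) hc
        rw [map_mul, map_mul, map_pow] at hc'
        exact hc'
    let f : sectModEt F (openObj q hq U) →ₗ[Γo (openObj q hq U)] Tw g ⊗[Γo (openObj q hq U)]
        sectModEt F (openObj q hq U) := TensorProduct.mk _ (Tw g) _ 1
    refine ⟨fun m => ?_, fun n hn => ?_⟩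
    · obtain ⟨z, rfl⟩ := hb.2 m
      obtain ⟨⟨n, s⟩, hns⟩ := IsLocalizedModule.surj (Submonoid.powers a) f z
      obtain ⟨k, hk⟩ := s.2
      refine ⟨k, n, ?_⟩
      have h := congrArg (lift g (LinearMap.id : sectModEt F (openObj q hq U) →ₗ[Γo (openObj q hq U)] _)) hns
      change lift g LinearMap.id ((s : Γo (openObj q hq U)) • z) = lift g LinearMap.id ((1 : Tw g) ⊗ₜ n) at h
      rw [lift_one_tmul, ← algebraMap_smul (Tw g) (s : Γo (openObj q hq U)) z] at h
      rw [show res F g n = _ from h.symm]
      refine (lift_smul g _ (γ g (s : Γo (openObj q hq U))) z).trans ?_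
      rw [← hk, map_pow, γ_openMap, openModule_smul, map_pow]
    · have h0 : f n = 0 := hb.1 (((lift_one_tmul g _ n).trans hn).trans (map_zero _).symm)
      obtain ⟨⟨_, k, rfl⟩, hk⟩ := (IsLocalizedModule.eq_zero_iff (Submonoid.powers a) f).1 h0
      refine ⟨k, ?_⟩
      rw [openModule_smul, map_pow]
      exact hk
  refine M1.isQCoh_of_loc_affine _ (fun U hU r t => ?_) fun U hU r t ht => ?_
  · obtain ⟨m, rfl⟩ := (shr q hq F (V.left.basicOpen r)).surjective t
    obtain ⟨k, n, hn⟩ := (hloc U hU r).1 m
    refine ⟨k, shr q hq F U n, ?_⟩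
    refine (shrRes_shr q hq F _ n).trans ?_
    rw [hn, map_smul]
  · obtain ⟨n, rfl⟩ := (shr q hq F U).surjective t
    have ht' := (shrRes_shr q hq F (V.left.basicOpen_le r) n).symm.trans ht
    obtain ⟨k, hk⟩ := (hloc U hU r).2 n ((shr q hq F _).injective (ht'.trans (map_zero _).symm))
    exact ⟨k, (map_smul (shr q hq F U) (r ^ k) n).symm.trans ((congrArg _ hk).trans (map_zero _))⟩

variable (hrep : Representable q) [(SheafOfModules.pushforward.{u + 1} (bcRingHom hrep)).IsRightAdjoint]

/-- The small model is a Zariski companion of the pullback. -/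
theorem nonempty_zarCompanion : Nonempty (ZarCompanion V.left (zarMod q hq F)
    ((resSchModEt V).obj ((pullModEt hrep).obj F))) := by
  haveI := (AlgSpEt14.postcomp_isContinuous_isCocontinuous q (isEtaleMor_of_repWith q hq)).1
  let i : (pullModEt hrep).obj F ≅ (restrEt (isEtaleMor_of_repWith q hq)).obj F :=
    (((restrPushAdj hrep (isEtaleMor_of_repWith q hq)).leftAdjointUniq (pullPushAdjModEt hrep)).app F).symm
  let E := fun W : V.left.Opens => (EtOver.ofScheme V).obj (etaleOfOpen V.left W)
  have hφ : ∀ W, Function.Bijective (appₗ i.hom (E W)) := fun W =>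
    Function.bijective_iff_has_inverse.2 ⟨appₗ i.inv (E W),
      fun m => congrArg (fun ψ => appₗ ψ (E W) m) i.hom_inv_id,
      fun m => congrArg (fun ψ => appₗ ψ (E W) m) i.inv_hom_id⟩
  let φ : ∀ W, sectModEt ((pullModEt hrep).obj F) (E W) ≃+ sectModEt F (openObj q hq W) := fun W =>
    AddEquiv.ofBijective (appₗ i.hom (E W)).toAddMonoidHom (hφ W)
  refine ⟨{ iso := fun W => (φ W).trans ((shr q hq F W).toAddEquiv.trans AddEquiv.ulift.symm)
            map_smul := fun W a m => ?_
            map_res := fun {W W'} h m => ?_ }⟩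
  · refine congrArg ULift.up ?_
    let m' : sectModEt ((pullModEt hrep).obj F) (E W) := m
    let b : Γo (E W) := W.topIso.inv a
    change shr q hq F W (appₗ i.hom (E W) (b • m')) = a • shr q hq F W (appₗ i.hom (E W) m')
    rw [← (shr q hq F W).map_smul, map_smul]
    rfl
  · refine congrArg ULift.up ?_
    change shr q hq F W' (appₗ i.hom (E W') (res ((pullModEt hrep).obj F)
        ((EtOver.ofScheme V).map (etaleOfLE h)) m)) =
      shrRes q hq F h (shr q hq F W (appₗ i.hom (E W) m))
    rw [shrRes_shr, appₗ_res]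
    rfl

end Groth.Agent.ProjSect14
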