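import Groth.Agent.Lib.ProjSect14.Chart

/-!
# Covering objects by affine opens of a chart
-/

universe u

open CategoryTheory CategoryTheory.Limits AlgebraicGeometry Opposite

set_option linter.style.haveILetI false
set_option maxHeartbeats 800000
set_option backward.isDefEq.respectTransparency false
set_option backward.isDefEq.respectTransparency.types false

namespace Groth.Agent.ProjSect14

open AlgSp Groth.Agent.QcohEt15 Groth.Agent.QcohEt15.Colim Groth.Agent.AlgSpace

variable {S : Scheme.{u}} {X : Space S} {U : Over S} {p : (yon S).obj U ⟶ X.obj}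
  (hp : RepWith @Etale p)

/-- Arrows that factor through an affine open of the chart cover. -/
theorem exists_affine_family_through (hs : RepWith @Surjective p) (E : EtOver X.obj)
    [IsAffine E.obj.left.left] :
    ∃ (κ : Type u) (_ : Finite κ) (Y : κ → EtOver X.obj) (g : ∀ k, Y k ⟶ E),
      (∀ k, IsAffine (Y k).obj.left.left) ∧
      (∀ x : ↥E.obj.left.left, ∃ k, x ∈ Set.range (g k).hom.left.left) ∧
      ∀ k, ∃ W' : U.left.Opens, IsAffineOpen W' ∧ Nonempty (Y k ⟶ openObj p hp W') := by
  let R : Sieve E := Sieve.ofObjects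
    (fun W' : {W' : U.left.Opens // IsAffineOpen W'} => openObj p hp W'.1) E
  have hR : R ∈ etTop X.obj E := by
    refine mem_etTop_iff.2 fun x => ?_
    obtain ⟨a, ha⟩ := (yon S).map_surjective (hp.1.fst E.obj.hom)
    let b := hp.1.snd E.obj.hom
    have sq := hp.1.isPullback E.obj.hom
    rw [← ha] at sq
    have hbe : Etale b.left := (repWith_yon_map_iff @Etale b).1 (repWith_of_isPullback sq hp)
    have : Surjective b.left :=
      (repWith_yon_map_iff @Surjective b).1 (repWith_of_isPullback sq hs)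
    obtain ⟨z, hz⟩ := b.left.surjective x
    obtain ⟨_, ⟨(W' : U.left.Opens), hW', rfl⟩, hzW, -⟩ :=
      U.left.isBasis_affineOpens.exists_subset_of_mem_open (Set.mem_univ (a.left z)) isOpen_univ
    let O := a.left ⁻¹ᵁ W'
    let T : Over S := Over.mk (O.ι ≫ (hp.1.pullback E.obj.hom).hom)
    let o : T ⟶ hp.1.pullback E.obj.hom := Over.homMk O.ι rfl
    have ho : RepWith @Etale ((yon S).map o) :=
      (repWith_yon_map_iff @Etale o).2 (inferInstanceAs (Etale O.ι))
    let Y : EtOver X.obj := EtOver.mk ((yon S).map (o ≫ b) ≫ E.obj.hom)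
      (repWith_comp ((repWith_yon_map_iff @Etale (o ≫ b)).2
        (inferInstanceAs (Etale (O.ι ≫ b.left)))) E.property)
    refine ⟨Y, EtOver.homMk (o ≫ b) rfl, ?_, ⟨⟨z, hzW⟩, hz⟩⟩
    refine (Sieve.mem_ofObjects_iff ..).2 ⟨⟨W', hW'⟩, ⟨?_⟩⟩
    refine EtOver.homMk (Over.homMk (a.left.resLE W' O le_rfl) ?_) ?_
    · change a.left.resLE W' O le_rfl ≫ W'.ι ≫ U.hom = O.ι ≫ (hp.1.pullback E.obj.hom).hom
      rw [← Category.assoc, Scheme.Hom.resLE_comp_ι, Category.assoc, Over.w a]
    · change (yon S).map _ ≫ (((yon S).map _ ≫ 𝟙 _) ≫ p) = (yon S).map (o ≫ b) ≫ E.obj.hom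
      rw [Category.comp_id, ← Category.assoc, ← Functor.map_comp]
      refine Eq.trans (congrArg (fun m => (yon S).map m ≫ p) (?_ : _ = o ≫ a)) ?_
      · ext1
        exact Scheme.Hom.resLE_comp_ι _ _
      · change (yon S).map (o ≫ a) ≫ p = (yon S).map (o ≫ b) ≫ E.obj.hom
        rw [Functor.map_comp, Functor.map_comp, Category.assoc, Category.assoc, sq.w]
  obtain ⟨κ, hκ, Y, g, hY, hRg, hcov⟩ := exists_affine_family R hR
  refine ⟨κ, hκ, Y, g, hY, hcov, fun k => ?_⟩
  obtain ⟨⟨W', hW'⟩, ht⟩ := (Sieve.mem_ofObjects_iff ..).1 (hRg k)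
  exact ⟨W', hW', ht⟩

include hp in
/-- Projectivity on one etale surjective chart gives projectivity on every chart. -/
theorem projective_of_chart {F : ModEt X.obj} [F.IsQuasicoherent] (hs : RepWith @Surjective p)
    (hrep : Representable p) [(SheafOfModules.pushforward.{u + 1} (bcRingHom hrep)).IsRightAdjoint]
    (G : U.left.Modules) (c : ZarCompanion U.left G ((resSchModEt U).obj ((pullModEt hrep).obj F)))
    (hG : ∀ W : U.left.Opens, IsAffineOpen W →
      Module.Projective (U.left.ringCatSheaf.obj.obj (op W)) (G.val.obj (op W)))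
    {V : Over S} (q : (yon S).obj V ⟶ X.obj) (hrepq : Representable q) (hq : RepWith @Etale q)
    [(SheafOfModules.pushforward.{u + 1} (bcRingHom hrepq)).IsRightAdjoint]
    (G' : V.left.Modules) (c' : ZarCompanion V.left G' ((resSchModEt V).obj ((pullModEt hrepq).obj F)))
    (W : V.left.Opens) (hW : IsAffineOpen W) :
    Module.Projective (V.left.ringCatSheaf.obj.obj (op W)) (G'.val.obj (op W)) := by
  haveI : IsAffine (openObj q hq W).obj.left.left := hW
  obtain ⟨κ, _, Y, g, hY, hcov, hfac⟩ := exists_affine_family_through hp hs (openObj q hq W)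
  refine projective_companion_of_cover q hq hrepq F G' c' W hW Y g hcov fun k => ?_
  obtain ⟨W', hW', ⟨t⟩⟩ := hfac k
  haveI : IsAffine (openObj p hp W').obj.left.left := hW'
  exact projective_of_hom t (good_of_isQuasicoherent _ t)
    (projective_open_of_companion p hp hrep F G c W' (hG W' hW'))

end Groth.Agent.ProjSect14
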