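import Groth.Agent.Lib.ProjSect14.Companion
import Groth.Agent.Lib.ProjSect14.Cover
import Groth.Agent.Lib.QcohEt15.Pull.Desc

/-!
# Inverse images of locally projective modules
-/

universe u

open CategoryTheory CategoryTheory.Limits AlgebraicGeometry Opposite TensorProduct

set_option linter.style.haveILetI false
set_option maxHeartbeats 800000
set_option backward.isDefEq.respectTransparency false
set_option backward.isDefEq.respectTransparency.types false

namespace Groth.Agent.ProjSect14

open AlgSp Groth.Agent.QcohEt15 Groth.Agent.QcohEt15.Pull Groth.Agent.EtPush14 Groth.Agent.AlgSpace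

variable {S : Scheme.{u}} {Y : Space S}

/-- Projectivity on all charts gives projective sections on affine objects. -/
theorem projective_of_locProj (G : ModEt Y.obj) [G.IsQuasicoherent]
    (hsmall : ∀ E : EtOver Y.obj, IsAffine E.obj.left.left → Small.{u} (sectModEt G E))
    (hproj : ∀ {V : Over S} (q : (yon S).obj V ⟶ Y.obj) (hrepq : Representable q)
      [(SheafOfModules.pushforward.{u + 1} (bcRingHom hrepq)).IsRightAdjoint]
      (H : V.left.Modules) [Coh.IsQCoh H]
      (c : ZarCompanion V.left H ((resSchModEt V).obj ((pullModEt hrepq).obj G)))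
      (W : V.left.Opens), RepWith @Etale q → IsAffineOpen W →
        Module.Projective (V.left.ringCatSheaf.obj.obj (op W)) (H.val.obj (op W)))
    (E : EtOver Y.obj) [IsAffine E.obj.left.left] :
    Module.Projective (Γo E) (sectModEt G E) := by
  let q := E.obj.hom
  have hq : RepWith @Etale q := E.property
  have hrepq : Representable q := hq.1
  haveI := (AlgSpEt14.postcomp_isContinuous_isCocontinuous q (isEtaleMor_of_repWith q hq)).1
  haveI : (SheafOfModules.pushforward.{u + 1} (bcRingHom hrepq)).IsRightAdjoint :=
    (restrPushAdj hrepq (isEtaleMor_of_repWith q hq)).isRightAdjoint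
  haveI : ∀ W : E.obj.left.left.Opens, Small.{u} (sectModEt G (openObj q hq W)) := fun W =>
    small_open q hq G (fun W' hW' => hsmall _ hW') W
  obtain ⟨c⟩ := nonempty_zarCompanion q hq G hrepq
  haveI := isQCoh_zarMod q hq G
  have h := hproj q hrepq (zarMod q hq G) c ⊤ hq (isAffineOpen_top _)
  have hp := projective_open_of_companion q hq hrepq G (zarMod q hq G) c ⊤ h
  haveI : IsAffine (openObj q hq ⊤).obj.left.left := isAffineOpen_top E.obj.left.left
  let t : E ⟶ openObj q hq ⊤ := EtOver.homMk (Over.homMk E.obj.left.left.topIso.inv (by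
      change E.obj.left.left.topIso.inv ≫ (⊤ : E.obj.left.left.Opens).ι ≫ E.obj.left.hom = _
      rw [← Category.assoc]
      exact (congrArg (· ≫ E.obj.left.hom) E.obj.left.left.topIso.inv_hom_id).trans (Category.id_comp _))) (by
    change (yon S).map _ ≫ (((yon S).map _ ≫ 𝟙 _) ≫ q) = E.obj.hom
    rw [Category.comp_id, ← Category.assoc, ← Functor.map_comp]
    refine Eq.trans (congrArg (fun m => (yon S).map m ≫ q) (?_ : _ = 𝟙 _)) ?_
    · ext1
      exact E.obj.left.left.topIso.inv_hom_id
    · exact (congrArg (· ≫ q) ((yon S).map_id _)).trans (Category.id_comp _))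
  exact projective_of_hom t (good_of_isQuasicoherent _ t) hp

variable {X : Sp S} {f : X ⟶ Y.obj} (hf : Representable f)
  [(SheafOfModules.pushforward.{u + 1} (bcRingHom hf)).IsRightAdjoint]

/-- Sections of the inverse image over an object lying over one with projective sections. -/
theorem projective_pull_of_lk (G : ModEt Y.obj) [G.IsQuasicoherent] {Z : EtOver X} [IsAffine Z.obj.left.left]
    {E : EtOver Y.obj} [IsAffine E.obj.left.left] (φ : Lk f Z E)
    (h : Module.Projective (Γo E) (sectModEt G E)) :
    Module.Projective (Γo Z) (sectModEt ((pullModEt hf).obj G) Z) := by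
  have hG : ∀ (V : EtOver Y.obj) [IsAffine V.obj.left.left], Good G V := fun V _ => good_of_isQuasicoherent V
  obtain ⟨i⟩ := nonempty_iso_pullModEt hf (G := G) hG
  let e : sectModEt ((pullModEt hf).obj G) Z ≃ₗ[Γo Z] sectModEt (pullQ f G hG) Z :=
    LinearEquiv.ofBijective (appₗ i.hom Z) (Function.bijective_iff_has_inverse.2 ⟨appₗ i.inv Z,
      fun m => congrArg (fun ψ => appₗ ψ Z m) i.hom_inv_id,
      fun m => congrArg (fun ψ => appₗ ψ Z m) i.inv_hom_id⟩)
  haveI := h
  haveI : Module.Projective (TwP φ) (Ten G φ) := inferInstance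
  haveI : Module.Projective (Γo Z) (Ten G φ) := this
  exact Module.Projective.of_equiv' (e.trans (LinearEquiv.ofBijective (evL hG φ) (evL_bijective hG φ))).symm

end Groth.Agent.ProjSect14
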